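import Cfsg.Agent.Mrg.Omega.EDel.Bx.Inst
import Cfsg.Agent.Mrg.Omega.EDel.ThmUEnd


/-!
# The universal frame over `B`, `q = 2` : THEOREM U #24127

* `Bx.fb` : helper583's frame `ThmU.FB`;
* `Bx.false_of` : THEOREM U over `Bx`.
-/

set_option autoImplicit false
set_option linter.unusedSectionVars false

namespace Cfsg.Agent.Omega.EDel.BxF

open Subgroup Cfsg Cfsg.Agent.ZN.ChoiceBase
open Cfsg.Agent.ZN (zc zl o2)
open Cfsg.Agent.ZN.ChoiceSit (Syl o2_le_syl syl_not_dvd)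
open Cfsg.Agent.Omega.EK3 (CT mem_CT Yc Nc)
open Cfsg.Agent.Omega.EDel.ThmU (XX FB)

universe u

variable {G : Type u} [Group G]

theorem syl_of_not_dvd [Finite G] {B X : Subgroup G} (hBX : B ≤ X) (h2 : IsPGroup 2 B)
    (h : ¬ 2 ∣ B.relIndex X) : Syl B X := by
  have : Fact (Nat.Prime 2) := ⟨Nat.prime_two⟩
  refine ⟨hBX, h2, fun Q hQX hQ hBQ => le_antisymm ?_ hBQ⟩
  have h3 : B.relIndex Q ∣ B.relIndex X := by
    rw [← relIndex_mul_relIndex B Q X hBQ hQX]
    exact dvd_mul_right _ _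
  obtain ⟨n, hn⟩ := (IsPGroup.index hQ (B.subgroupOf Q))
  rw [← relIndex] at hn
  rcases Nat.eq_zero_or_pos n with e | hpos
  · rw [e, pow_zero] at hn
    exact relIndex_eq_one.1 hn
  · exact absurd ((dvd_pow_self 2 hpos.ne').trans (hn ▸ h3)) h

namespace Bx

variable [Finite G] {B J ZJ : Subgroup G} {ι : Type} {W : ι → Subgroup G} {z : ι → G} (h : Bx B J ZJ W z)
include h

/-- the frame of helper583's `ThmUEnd` -/
theorem fb [Finite ι] (hML : ML.Final.MLK.{u, u}) (kg : ∀ T : Set ι, T.Nonempty → IsKGroup (CT z T)) :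
    FB B (centralizer (ZJ : Set G)) ZJ z (Yc z) (Nc z) where
  fr := h.toFr hML fun j => kg _ (compl_one_ne h.three j)
  two := h.two
  BD := h.BD
  syl := syl_not_dvd h.syl
  inj := h.inj
  ZJ_eq := h.closure_eq
  ZB := h.ZJB
  D_eq := rfl
  Y_eq := fun i => Yc_eq z i
  NB := fun _ hg => h.NB hg
  ch := fun l m _ => h.ch l m
  KX := fun l m _ => by
    unfold XX
    rw [X_eq]
    exact kg _ (compl_two_ne h.three l m)
  par := fun l m hlm hs hN P hP hPX => by
    have hBX : B ≤ XX z l m := by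
      unfold XX
      rw [X_eq]
      exact h.B_le_CT _
    exact h.par_pair hlm (syl_of_not_dvd hBX h.two hs) hN hP hPX

/-- **THEOREM U** over `Bx` -/
theorem false_of [Finite ι] [Nonempty ι] (hML : ML.Final.MLK.{u, u}) (hE : ML.Ex.Two.Ext.{u, u})
    (kg : ∀ T : Set ι, T.Nonempty → IsKGroup (CT z T))
    (nl : ∀ R : Subgroup G, R ≠ ⊥ → IsPGroup 2 R → ¬ ∀ j, Yc z j ≤ normalizer (R : Set G)) : False :=
  (h.fb hML kg).false_of hML hE h.O_ne nl

end Bx

end Cfsg.Agent.Omega.EDel.BxF
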