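import Cfsg.Agent.Mrg.Omega.EDel.Bx.OfFg
import Cfsg.Agent.Mrg.Omega.EDel.Bx.Final
import Cfsg.Agent.Mrg.Omega.NOThreeL.RRed.BFr.NlNeg
import Cfsg.Agent.Mrg.Omega.TC.UniLev


/-!
# Box R, at least three blocks over `B = bau S` (stage `-1`), `q = 2`: THEOREM U

* `kg_of` : `C_G(z_l : l ∈ T)` is a `K`-group;
* `exists_bx` : `LineV S Q V L W Z C A 2` gives the frame `Bx`;
* `false_line` : THEOREM U over `LineV` in box R.
-/

set_option autoImplicit false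
set_option linter.unusedSectionVars false

namespace Cfsg.Agent.Omega.EDel.BxF

open Subgroup Cfsg Cfsg.Agent.ZN.ChoiceBase
open Cfsg.Agent.ZN (jj zj bau zc zl o2)
open Cfsg.Agent.ZN.ChoiceSit (Syl o2_le_syl)
open Cfsg.Agent.Omega.OM Cfsg.Agent.Omega.OM.Uni
open Cfsg.Agent.Omega.OM.SwapV.NegPair
open Cfsg.Agent.Omega.NO3S.EThree.Frame
open Cfsg.Agent.Omega.EK3 (CT mem_CT Yc mem_Yc)
open Cfsg.Agent.Omega.NOThreeL.RTree (RB)

universe u

variable {G : Type u} [Group G]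

/-- `C_G(z_l : l ∈ T)` is a `K`-group, `T ≠ ∅` -/
theorem kg_of [Finite G] (hG : Frame.Ctx G) {ι : Type} {z : ι → G} (hz : ∀ i, z i ≠ 1) (T : Set ι)
    (hT : T.Nonempty) : IsKGroup (CT z T) := by
  refine hG.kproper _ ?_
  intro e
  obtain ⟨i, hi⟩ := hT
  have hs := hG.simple
  have h1 : z i ∈ center G := by
    rw [mem_center_iff]
    intro g
    exact mem_CT.1 (e ▸ mem_top g) i hi
  rcases hs.eq_bot_or_eq_top_of_normal (center G) inferInstance with h2 | h2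
  · rw [h2, mem_bot] at h1
    exact hz i h1
  · exact hG.nonComm ⟨⟨fun a b => (mem_center_iff.1 (h2 ▸ mem_top b) a)⟩⟩

variable [Finite G] {ι : Type} [Finite ι] {S : Sylow 2 G} {Q V : Subgroup G} {L W Z C A : ι → Subgroup G}

/-- **The universal frame at stage `-1`.** -/
theorem exists_bx (h : LineV S Q V L W Z C A 2) (h3 : ∀ i j : ι, ∃ l, l ≠ i ∧ l ≠ j) :
    ∃ z : ι → G, (∀ i x, x ∈ Z i ↔ x = 1 ∨ x = z i) ∧
      Bx (bau (S : Subgroup G)) (jj (S : Subgroup G)) (zj (S : Subgroup G)) W z := by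
  refine of_fg h.ch (LevD.LB.neg S) (Fg.of_fr h.fr) (fun g hg i => ?_) ?_
    (NO3S.EThree.TiNeg.blkS_neg FF.Glob.ffthm S le_rfl) h3
  · obtain ⟨j, hj, -⟩ := (h.norm hg).2 i
    exact ⟨j, hj⟩
  · rintro L' V' ⟨⟨Z', q', hfb⟩, -⟩
    obtain ⟨-, i, -, -, h1⟩ := h.uniPlus hfb
    rcases h1 with ⟨-, -, h2⟩ | ⟨-, h4, -⟩
    · exact ⟨i, (h2 rfl).2⟩
    · exact absurd h4 (NOThreeL.RRed.BFr.NlNeg.card_ne h h3 i)

/-- **THEOREM U over `LineV` in box R.** -/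
theorem false_line (hML : ML.Final.MLK.{u, u}) (hE : ML.Ex.Two.Ext.{u, u}) (B : RB S)
    (h : LineV S Q V L W Z C A 2) (h3 : ∀ i j : ι, ∃ l, l ≠ i ∧ l ≠ j) [Nonempty ι] : False := by
  obtain ⟨z, hz, hb⟩ := exists_bx h h3
  refine hb.false_of hML hE (kg_of B.ctx hb.ne) fun R hR hR2 hall => hR ?_
  obtain ⟨i⟩ := ‹Nonempty ι›
  refine NOThreeL.RRed.BFr.NlNeg.nl B h h3 hR2 ((hb.D_le i).trans (hall i)) fun j => le_trans ?_ (hall j)
  intro l hl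
  refine mem_Yc.2 fun m hm => ?_
  exact h.fr.LC j l hl (z m) (hb.zJ m) (h.fr.WjC j m hm.symm (hb.zW m))

end Cfsg.Agent.Omega.EDel.BxF
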