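import Cfsg.Agent.Mrg.Omega.TC.No
import Cfsg.Agent.Mrg.Omega.ML.MinIrr
import Cfsg.Agent.Mrg.Omega.KL.FlagNO
import Cfsg.Agent.Mrg.Omega.KL.TwoS.Ex

section


/-!
# LEMMA ZJ+, base (helper285 #25856 (0), (C), (K3); literal of #26356)

`Y` a K-group with Sylow 2-subgroup `B ≤ D = C_Y(z)`, `X` central in `Y`, `{g ∈ Y | [g, z] ∈ X} = D`,
`N = ⟨z^Y⟩ ≤ Ω₁Z(O₂(Y))`, `LJ O = Ω₁Z(J(O))`.

* `OneB.k3` : `w ∈ N`, `[w, A] ≤ X` for `A` of maximal order in `O₂(D)` ⟹ `[w, A] = 1`;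
* `OneB.ex` : `A` is exact on `N`; `OneB.mx`, `OneB.sup_le_o2Y` : `C_A(N) N` is of maximal order and lies in `O₂(Y)`;
* `OneB.LJ_le`, `OneB.N_le_LJ`, `OneB.E_sup`, `OneB.E_cent`, `LJ_norm`, `LJ_le_mem`.
-/

set_option autoImplicit false
set_option linter.unusedSectionVars false

namespace Cfsg.Agent.Omega.EDel.ZJBase

open Subgroup Cfsg
open Cfsg.Agent.ZN (o2 zc)
open scoped Pointwise
open Cfsg.Agent.ZN.ChoiceSit (Syl o2_le_syl syl_not_dvd)
open Cfsg.Agent.Omega.KL.TwoS (Mx comm_of_sq sq_sup relIndex_le_of_sup)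
open Cfsg.Agent.Omega.ML.Final (MLK)
open Cfsg.Agent.Omega.NoFF.Basic (V Z_le_V V_le mem_conj comm_symm)
open Cfsg.Agent.Omega.OM.KTwo (exists_mul_of_mem_sup le_normalizer_V)
open Cfsg.Agent.MinSimple.VModule (mem_zc zc_le o2_le o2_isPGroup le_o2 le_normalizer_o2 normalizer_le_normalizer_zc)
open Cfsg.Agent.Omega.TC.LemZ (card_eq)

universe u

variable {G : Type u} [Group G] [Finite G]

/-! ### `LJ O = Ω₁Z(J(O))` -/

theorem mem_of_mx {O A : Subgroup G} (hA : Mx O A) {x : G} (h1 : x ∈ O) (h2 : x ^ 2 = 1)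
    (h3 : x ∈ centralizer (A : Set G)) : x ∈ A := by
  have h4 : zpowers x ≤ A := by
    refine hA.le_of_comm (zpowers_le.2 h1) ?_ (zpowers_le.2 h3)
    intro b hb
    obtain ⟨k, rfl⟩ := mem_zpowers_iff.1 hb
    rw [← zpow_natCast, ← zpow_mul, mul_comm, zpow_mul, zpow_natCast, h2, one_zpow]
  exact h4 (mem_zpowers x)

/-- `Ω₁Z(J(O))` -/
def LJ (O : Subgroup G) : Subgroup G where
  carrier := {x | x ∈ O ∧ x ^ 2 = 1 ∧ ∀ A : Subgroup G, Mx O A → x ∈ centralizer (A : Set G)}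
  one_mem' := ⟨one_mem _, one_pow _, fun _ _ => one_mem _⟩
  mul_mem' := by
    rintro a b ⟨h1, h2, h3⟩ ⟨k1, k2, k3⟩
    refine ⟨mul_mem h1 k1, ?_, fun A hA => mul_mem (h3 A hA) (k3 A hA)⟩
    obtain ⟨A, hA⟩ := Mx.exists_mx O
    exact hA.sq _ (mul_mem (mem_of_mx hA h1 h2 (h3 A hA)) (mem_of_mx hA k1 k2 (k3 A hA)))
  inv_mem' := by
    rintro a ⟨h1, h2, h3⟩
    exact ⟨inv_mem h1, by rw [inv_pow, h2, inv_one], fun A hA => inv_mem (h3 A hA)⟩

theorem mem_LJ {O : Subgroup G} {x : G} :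
    x ∈ LJ O ↔ x ∈ O ∧ x ^ 2 = 1 ∧ ∀ A : Subgroup G, Mx O A → x ∈ centralizer (A : Set G) := Iff.rfl

theorem LJ_le (O : Subgroup G) : LJ O ≤ O := fun _ h => h.1

theorem LJ_sq {O : Subgroup G} {x : G} (h : x ∈ LJ O) : x ^ 2 = 1 := h.2.1

theorem LJ_le_mem {O A : Subgroup G} (hA : Mx O A) : LJ O ≤ A := fun _ h => mem_of_mx hA h.1 h.2.1 (h.2.2 A hA)

theorem LJ_norm (O : Subgroup G) : normalizer (O : Set G) ≤ normalizer (LJ O : Set G) := by
  have key : ∀ g ∈ normalizer (O : Set G), ∀ x ∈ LJ O, g * x * g⁻¹ ∈ LJ O := by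
    intro g hg x hx
    refine ⟨(mem_normalizer_iff.1 hg x).1 hx.1, ?_, fun A hA => ?_⟩
    · rw [conj_pow, hx.2.1, mul_one, mul_inv_cancel]
    · -- conjugate `A` back
      have hOg : MulAut.conj g⁻¹ • A ≤ O := by
        intro a ha
        rw [mem_conj, inv_inv] at ha
        exact (mem_normalizer_iff.1 hg a).2 (hA.le ha)
      have h1 := hx.2.2 _ (hA.conj hOg)
      rw [mem_centralizer_iff] at h1 ⊢
      intro a ha
      have h2 : g⁻¹ * a * g ∈ MulAut.conj g⁻¹ • A := by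
        rw [mem_conj, inv_inv]
        have e : g * (g⁻¹ * a * g) * g⁻¹ = a := by group
        rw [e]
        exact ha
      have h3 := h1 _ h2
      calc a * (g * x * g⁻¹) = g * ((g⁻¹ * a * g) * x) * g⁻¹ := by group
        _ = g * (x * (g⁻¹ * a * g)) * g⁻¹ := by rw [h3]
        _ = g * x * g⁻¹ * a := by group
  intro g hg
  rw [mem_normalizer_iff]
  intro x
  refine ⟨key g hg x, fun h => ?_⟩
  have h1 := key g⁻¹ (inv_mem hg) _ h
  have e : g⁻¹ * (g * x * g⁻¹) * g⁻¹⁻¹ = x := by group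
  rwa [e] at h1

/-! ### The frame -/

/-- `N = ⟨z^Y⟩` -/
abbrev NZ (z : G) (Y : Subgroup G) : Subgroup G := V (zpowers z) Y

/-- the frame of one block `b` : `Y = C_G(z_a : a ≠ b)`, `X = ⟨z_a : a ≠ b⟩`, `D = C_G(Z_J)`, `z = z_b` -/
structure OneB (B D Y X : Subgroup G) (z : G) : Prop where
  kg : IsKGroup Y
  syl : Syl B Y
  BD : B ≤ D
  DY : D ≤ Y
  Dz : D ≤ centralizer ({z} : Set G)
  zQ : z ∈ zc (o2 Y)
  XQ : X ≤ zc (o2 Y)
  XY : X ≤ centralizer (Y : Set G)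
  st : ∀ g ∈ Y, g * z * g⁻¹ * z⁻¹ ∈ X → g ∈ D

variable {B D Y X : Subgroup G} {z : G}

theorem z_mem_NZ (z : G) (Y : Subgroup G) : z ∈ NZ z Y := by
  have h := Z_le_V (Z := zpowers z) (P := Y) (p := 1) (one_mem _)
  rw [map_one, one_smul] at h
  exact h (mem_zpowers z)

theorem NZ_le_of {z : G} {Y U : Subgroup G} (h1 : z ∈ U) (h2 : Y ≤ normalizer (U : Set G)) : NZ z Y ≤ U := by
  refine V_le fun p hp => ?_
  intro x hx
  rw [mem_conj] at hx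
  have h3 : p⁻¹ * x * p ∈ U := (zpowers_le.2 h1) hx
  have h4 := (mem_normalizer_iff.1 (h2 hp) _).1 h3
  have e : p * (p⁻¹ * x * p) * p⁻¹ = x := by group
  rwa [e] at h4

theorem NZ_norm (z : G) (Y : Subgroup G) : Y ≤ normalizer (NZ z Y : Set G) := le_normalizer_V _ _

namespace OneB

variable (h : OneB B D Y X z)
include h

theorem mem_D {g : G} (hg : g ∈ Y) (hz : g * z = z * g) : g ∈ D :=
  h.st g hg (by rw [hz, mul_inv_cancel_right, mul_inv_cancel]; exact one_mem _)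

theorem Q_le : o2 Y ≤ o2 D :=
  le_o2 ((o2_le_syl h.syl).trans h.BD) (o2_isPGroup _) (h.DY.trans (le_normalizer_o2 Y))

theorem N_le : NZ z Y ≤ zc (o2 Y) :=
  NZ_le_of h.zQ ((le_normalizer_o2 Y).trans (normalizer_le_normalizer_zc _))

theorem N_sq {x : G} (hx : x ∈ NZ z Y) : x ^ 2 = 1 := (mem_zc.1 (h.N_le hx)).2.2

theorem X_sq {x : G} (hx : x ∈ X) : x ^ 2 = 1 := (mem_zc.1 (h.XQ hx)).2.2

/-- elements of `Y` which centralise `N` modulo `X` centralise `N` -/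
theorem ker {g : G} (hg : g ∈ Y) (hN : ∀ x ∈ NZ z Y, g * x * g⁻¹ * x⁻¹ ∈ X) : g ∈ centralizer (NZ z Y : Set G) := by
  have hX : ∀ y ∈ Y, ∀ x ∈ X, y * x * y⁻¹ = x := fun y hy x hx => by
    rw [mem_centralizer_iff.1 (h.XY hx) y hy, mul_inv_cancel_right]
  -- the conjugates of `g` lie in `D`
  have h1 : ∀ y ∈ Y, y⁻¹ * g * y ∈ D := by
    intro y hy
    refine h.st _ (mul_mem (mul_mem (inv_mem hy) hg) hy) ?_
    have hyz : y * z * y⁻¹ ∈ NZ z Y := (mem_normalizer_iff.1 (NZ_norm z Y hy) z).1 (z_mem_NZ z Y)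
    have h2 := hN _ hyz
    have e : y⁻¹ * g * y * z * (y⁻¹ * g * y)⁻¹ * z⁻¹ = y⁻¹ * (g * (y * z * y⁻¹) * g⁻¹ * (y * z * y⁻¹)⁻¹) * y := by
      group
    have h3 := hX y⁻¹ (inv_mem hy) _ h2
    rw [inv_inv] at h3
    rw [e, h3]
    exact h2
  -- `g` centralises all conjugates of `z`
  have h2 : NZ z Y ≤ centralizer ({g} : Set G) := by
    refine V_le fun p hp => ?_
    intro x hx
    rw [mem_conj] at hx
    have h3 : p⁻¹ * x * p ∈ centralizer ({p⁻¹ * g * p} : Set G) := by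
      refine (zpowers_le.2 ?_) hx
      rw [mem_centralizer_singleton_iff]
      exact (mem_centralizer_singleton_iff.1 (h.Dz (h1 p hp))).symm
    rw [mem_centralizer_singleton_iff] at h3 ⊢
    have h4 := congrArg (fun t => p * t * p⁻¹) h3
    calc x * g = p * (p⁻¹ * x * p * (p⁻¹ * g * p)) * p⁻¹ := by group
      _ = p * (p⁻¹ * g * p * (p⁻¹ * x * p)) * p⁻¹ := by rw [h3]
      _ = g * x := by group
  rw [mem_centralizer_iff]
  exact fun x hx => mem_centralizer_singleton_iff.1 (h2 hx)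

/-- `O₂(D) ∩ C(N) ≤ O₂(Y)` -/
theorem cent_le {g : G} (hg : g ∈ o2 D) (hN : g ∈ centralizer (NZ z Y : Set G)) : g ∈ o2 Y := by
  have hYC : Y ≤ normalizer ((Y ⊓ centralizer (NZ z Y : Set G) : Subgroup G) : Set G) := by
    intro y hy
    have hk : ∀ y ∈ Y, ∀ x ∈ Y ⊓ centralizer (NZ z Y : Set G), y * x * y⁻¹ ∈ Y ⊓ centralizer (NZ z Y : Set G) := by
      intro y hy x hx
      refine mem_inf.2 ⟨mul_mem (mul_mem hy hx.1) (inv_mem hy), ?_⟩
      rw [mem_centralizer_iff]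
      intro n hn
      have h1 : y⁻¹ * n * y ∈ NZ z Y := by
        have h2 := (mem_normalizer_iff.1 (NZ_norm z Y (inv_mem hy)) n).1 hn
        rwa [inv_inv] at h2
      have h2 := mem_centralizer_iff.1 hx.2 _ h1
      calc n * (y * x * y⁻¹) = y * (y⁻¹ * n * y * x) * y⁻¹ := by group
        _ = y * (x * (y⁻¹ * n * y)) * y⁻¹ := by rw [h2]
        _ = y * x * y⁻¹ * n := by group
    rw [mem_normalizer_iff]
    intro x
    refine ⟨hk y hy x, fun h1 => ?_⟩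
    have h2 := hk y⁻¹ (inv_mem hy) _ h1
    have e : y⁻¹ * (y * x * y⁻¹) * y⁻¹⁻¹ = x := by group
    rwa [e] at h2
  -- `C_Y(N) ≤ D`
  have hCD : Y ⊓ centralizer (NZ z Y : Set G) ≤ D := fun x hx =>
    h.mem_D hx.1 (mem_centralizer_iff.1 hx.2 z (z_mem_NZ z Y)).symm
  have h1 : g ∈ o2 (Y ⊓ centralizer (NZ z Y : Set G)) := by
    have h2 : o2 D ⊓ centralizer (NZ z Y : Set G) ≤ o2 (Y ⊓ centralizer (NZ z Y : Set G)) := by
      refine le_o2 (le_inf (inf_le_left.trans ((o2_le D).trans h.DY)) inf_le_right)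
        ((o2_isPGroup D).to_le inf_le_left) ?_
      intro x hx
      have hxD := le_normalizer_o2 D (hCD hx)
      have hk : ∀ x ∈ Y ⊓ centralizer (NZ z Y : Set G), ∀ q ∈ o2 D ⊓ centralizer (NZ z Y : Set G),
          x * q * x⁻¹ ∈ o2 D ⊓ centralizer (NZ z Y : Set G) := by
        intro x hx q hq
        exact mem_inf.2 ⟨(mem_normalizer_iff.1 (le_normalizer_o2 D (hCD hx)) q).1 hq.1,
          mul_mem (mul_mem hx.2 hq.2) (inv_mem hx.2)⟩
      rw [mem_normalizer_iff]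
      intro q
      refine ⟨hk x hx q, fun h1 => ?_⟩
      have h2 := hk x⁻¹ (inv_mem hx) _ h1
      have e : x⁻¹ * (x * q * x⁻¹) * x⁻¹⁻¹ = q := by group
      rwa [e] at h2
    exact h2 (mem_inf.2 ⟨hg, hN⟩)
  -- characteristic in a normal subgroup of `Y`
  have h3 : o2 (Y ⊓ centralizer (NZ z Y : Set G)) ≤ o2 Y := by
    refine le_o2 ((o2_le _).trans inf_le_left) (o2_isPGroup _) ?_
    intro y hy
    exact Cfsg.Agent.Omega.normalizer_le_normalizer_o2' _ (hYC hy)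
  exact h3 h1

/-- (ML) on `N X / X` -/
theorem ml (hML : MLK.{u, u}) {A : Subgroup G} (hA : Mx (o2 D) A) {CW : Subgroup G}
    (hCW : ∀ x, x ∈ CW ↔ x ∈ NZ z Y ⊔ X ∧ ∀ a ∈ A, a * x * a⁻¹ * x⁻¹ ∈ X) :
    (A ⊓ centralizer (NZ z Y : Set G)).relIndex A ≤ CW.relIndex (NZ z Y ⊔ X) := by
  have hXc : ∀ y ∈ Y, ∀ x ∈ X, y * x = x * y := fun y hy x hx => mem_centralizer_iff.1 (h.XY hx) y hy
  have hAY : A ≤ Y := hA.le.trans ((o2_le D).trans h.DY)
  have hNX : NZ z Y ≤ Y := h.N_le.trans ((zc_le _).trans (o2_le Y))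
  have hXY' : X ≤ Y := h.XQ.trans ((zc_le _).trans (o2_le Y))
  have hYX : Y ≤ normalizer (X : Set G) := by
    intro y hy
    rw [mem_normalizer_iff]
    intro x
    constructor
    · intro hx
      rw [hXc y hy x hx, mul_inv_cancel_right]
      exact hx
    · intro hx
      have h1 := hXc y⁻¹ (inv_mem hy) _ hx
      have h2 : x = y * x * y⁻¹ := by
        calc x = y⁻¹ * (y * x * y⁻¹) * y := by group
          _ = y * x * y⁻¹ * y⁻¹ * y := by rw [h1]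
          _ = y * x * y⁻¹ := by group
      rw [h2]
      exact hx
  have hW : ∀ x ∈ NZ z Y ⊔ X, ∃ n ∈ NZ z Y, ∃ c ∈ X, x = n * c := fun x hx =>
    exists_mul_of_mem_sup (hXY'.trans (NZ_norm z Y)) hx
  refine hML.grp (C := Y) (W := NZ z Y ⊔ X) (Y := X) (T := B) (Q := o2 D) (A := A) (w := z) h.kg
    { nW := fun y hy => ?_
      nY := hYX
      YW := le_sup_right
      WY := sup_le (hNX.trans hYX) (hXY'.trans hYX)
      sq := fun x hx => ?_
      mem := mem_sup_left (z_mem_NZ z Y)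
      gen := fun U h1 h2 h3 => sup_le (NZ_le_of h1 h3) h2
      TC := h.BD.trans h.DY
      two := h.syl.2.1
      odd := syl_not_dvd h.syl
      fixT := fun t ht => ?_
      QC := (o2_le D).trans h.DY
      Q2 := o2_isPGroup D
      fixQ := fun q hq => ?_
      nrmQ := fun g hg h1 q hq => (mem_normalizer_iff.1 (le_normalizer_o2 D (h.st g hg h1)) q).1 hq
      AQ := hA.le
      Asq := fun a ha x _ => ?_ } (fun a => ?_) hCW
  · -- `Y` normalises `N X`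
    have hk : ∀ y ∈ Y, ∀ x ∈ NZ z Y ⊔ X, y * x * y⁻¹ ∈ NZ z Y ⊔ X := by
      intro y hy x hx
      obtain ⟨n, hn, c, hc, rfl⟩ := hW x hx
      have e : y * (n * c) * y⁻¹ = (y * n * y⁻¹) * (y * c * y⁻¹) := by group
      rw [e]
      exact mul_mem (mem_sup_left ((mem_normalizer_iff.1 (NZ_norm z Y hy) n).1 hn))
        (mem_sup_right ((mem_normalizer_iff.1 (hYX hy) c).1 hc))
    rw [mem_normalizer_iff]
    intro x
    refine ⟨hk y hy x, fun h1 => ?_⟩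
    have h2 := hk y⁻¹ (inv_mem hy) _ h1
    have e : y⁻¹ * (y * x * y⁻¹) * y⁻¹⁻¹ = x := by group
    rwa [e] at h2
  · obtain ⟨n, hn, c, hc, rfl⟩ := hW x hx
    have h1 : c * n = n * c := (hXc n (hNX hn) c hc).symm
    have h2 : n * n = 1 := by rw [← pow_two]; exact h.N_sq hn
    have e : n * c * (n * c) = c * c := by
      calc n * c * (n * c) = n * (c * n) * c := by group
        _ = n * n * (c * c) := by rw [h1]; group
        _ = c * c := by rw [h2, one_mul]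
    rw [e]
    exact mul_mem hc hc
  · have h1 : t * z = z * t := mem_centralizer_singleton_iff.1 (h.Dz (h.BD ht))
    rw [h1, mul_inv_cancel_right, mul_inv_cancel]
    exact one_mem _
  · have h1 : q * z = z * q := mem_centralizer_singleton_iff.1 (h.Dz (o2_le D hq))
    rw [h1, mul_inv_cancel_right, mul_inv_cancel]
    exact one_mem _
  · have h1 : a * a = 1 := by rw [← pow_two]; exact hA.sq a ha
    have e : a * (a * x * a⁻¹) * a⁻¹ * x⁻¹ = 1 := by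
      calc a * (a * x * a⁻¹) * a⁻¹ * x⁻¹ = (a * a) * x * (a * a)⁻¹ * x⁻¹ := by group
        _ = 1 := by rw [h1]; group
    rw [e]
    exact one_mem _
  · rw [mem_inf]
    refine and_congr_right fun ha => ⟨fun h1 x hx => ?_, fun h1 => h.ker (hAY ha) fun x hx => h1 x (mem_sup_left hx)⟩
    obtain ⟨n, hn, c, hc, rfl⟩ := hW x hx
    have h2 : a * n = n * a := (mem_centralizer_iff.1 h1 n hn).symm
    have h3 : a * c = c * a := hXc a (hAY ha) c hc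
    have e : a * (n * c) * a⁻¹ * (n * c)⁻¹ = 1 := by
      calc a * (n * c) * a⁻¹ * (n * c)⁻¹ = (a * n) * c * a⁻¹ * c⁻¹ * n⁻¹ := by group
        _ = n * (a * c) * a⁻¹ * c⁻¹ * n⁻¹ := by rw [h2]; group
        _ = 1 := by rw [h3]; group
    rw [e]
    exact one_mem _

theorem NX_le : NZ z Y ⊔ X ≤ o2 D := sup_le (h.N_le.trans ((zc_le _).trans h.Q_le)) (h.XQ.trans ((zc_le _).trans h.Q_le))

theorem NX_sq : ∀ x ∈ NZ z Y ⊔ X, x ^ 2 = 1 := by
  intro x hx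
  have h1 : x ∈ zc (o2 Y) := (sup_le h.N_le h.XQ) hx
  exact (mem_zc.1 h1).2.2

theorem X_cent {A : Subgroup G} (hAY : A ≤ Y) : X ≤ centralizer (A : Set G) := h.XY.trans (centralizer_le hAY)

theorem A_le {A : Subgroup G} (hA : Mx (o2 D) A) : A ≤ Y := hA.le.trans ((o2_le D).trans h.DY)

/-- `C_A(N X) = C_A(N)` -/
theorem cent_NX {A : Subgroup G} (hA : Mx (o2 D) A) :
    A ⊓ centralizer ((NZ z Y ⊔ X : Subgroup G) : Set G) = A ⊓ centralizer (NZ z Y : Set G) := by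
  refine le_antisymm (inf_le_inf_left _ (centralizer_le (le_sup_left : NZ z Y ≤ NZ z Y ⊔ X))) ?_
  refine le_inf inf_le_left ?_
  have h1 : NZ z Y ⊔ X ≤ centralizer ((A ⊓ centralizer (NZ z Y : Set G) : Subgroup G) : Set G) :=
    sup_le (comm_symm inf_le_right) ((h.X_cent (h.A_le hA)).trans (centralizer_le inf_le_left))
  exact comm_symm h1

theorem mem_Y {x : G} (hx : x ∈ NZ z Y ⊔ X) : x ∈ Y := h.DY (o2_le D (h.NX_le hx))

/-- the elements of `N X` which `A` centralises modulo `X` -/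
def CW (A : Subgroup G) : Subgroup G where
  carrier := {x | x ∈ NZ z Y ⊔ X ∧ ∀ a ∈ A, a * x * a⁻¹ * x⁻¹ ∈ X}
  one_mem' := ⟨one_mem _, fun a _ => by simp⟩
  mul_mem' := by
    rintro x y ⟨h1, h2⟩ ⟨k1, k2⟩
    refine ⟨mul_mem h1 k1, fun a ha => ?_⟩
    have h3 : x * (a * y * a⁻¹ * y⁻¹) * x⁻¹ = a * y * a⁻¹ * y⁻¹ := by
      rw [mem_centralizer_iff.1 (h.XY (k2 a ha)) x (h.mem_Y h1), mul_inv_cancel_right]
    have e : a * (x * y) * a⁻¹ * (x * y)⁻¹ = (a * x * a⁻¹ * x⁻¹) * (x * (a * y * a⁻¹ * y⁻¹) * x⁻¹) := by group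
    rw [e, h3]
    exact mul_mem (h2 a ha) (k2 a ha)
  inv_mem' := by
    rintro x ⟨h1, h2⟩
    refine ⟨inv_mem h1, fun a ha => ?_⟩
    have h3 : x⁻¹ * (a * x * a⁻¹ * x⁻¹)⁻¹ * x = (a * x * a⁻¹ * x⁻¹)⁻¹ := by
      have h4 := mem_centralizer_iff.1 (h.XY (inv_mem (h2 a ha))) x⁻¹ (inv_mem (h.mem_Y h1))
      calc x⁻¹ * (a * x * a⁻¹ * x⁻¹)⁻¹ * x = (a * x * a⁻¹ * x⁻¹)⁻¹ * x⁻¹ * x := by rw [h4]
        _ = (a * x * a⁻¹ * x⁻¹)⁻¹ := by group
    have e : a * x⁻¹ * a⁻¹ * x⁻¹⁻¹ = x⁻¹ * (a * x * a⁻¹ * x⁻¹)⁻¹ * x := by group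
    rw [e, h3]
    exact inv_mem (h2 a ha)

theorem relIndex_cent (hML : MLK.{u, u}) {A : Subgroup G} (hA : Mx (o2 D) A) :
    (centralizer (NZ z Y : Set G)).relIndex A ≤ (h.CW A).relIndex (NZ z Y ⊔ X) := by
  have h1 := h.ml hML hA (CW := h.CW A) fun x => Iff.rfl
  rwa [inf_relIndex_left] at h1

/-- `C_{NX/X}(A)` is the image of `C_{NX}(A)` -/
theorem CW_eq (hML : MLK.{u, u}) {A : Subgroup G} (hA : Mx (o2 D) A) :
    (NZ z Y ⊔ X) ⊓ centralizer (A : Set G) = h.CW A := by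
  have hle : (NZ z Y ⊔ X) ⊓ centralizer (A : Set G) ≤ h.CW A := by
    intro x hx
    refine ⟨hx.1, fun a ha => ?_⟩
    rw [mem_centralizer_iff.1 hx.2 a ha, mul_inv_cancel_right, mul_inv_cancel]
    exact one_mem _
  have h1 := hA.thom h.NX_le h.NX_sq
  have h2 : (centralizer ((NZ z Y ⊔ X : Subgroup G) : Set G)).relIndex A = (centralizer (NZ z Y : Set G)).relIndex A := by
    rw [← inf_relIndex_left A (centralizer ((NZ z Y ⊔ X : Subgroup G) : Set G)), h.cent_NX hA, inf_relIndex_left]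
  rw [h2] at h1
  have h3 := h1.trans (h.relIndex_cent hML hA)
  have h4 := card_eq (NZ z Y ⊔ X) (centralizer (A : Set G))
  have h5 := card_eq (NZ z Y ⊔ X) (h.CW A)
  have h6 : (NZ z Y ⊔ X) ⊓ h.CW A = h.CW A := inf_eq_right.2 fun x hx => hx.1
  rw [h6] at h5
  refine Subgroup.eq_of_le_of_card_ge hle ?_
  have p1 : 0 < (h.CW A).relIndex (NZ z Y ⊔ X) := by
    rcases Nat.eq_zero_or_pos ((h.CW A).relIndex (NZ z Y ⊔ X)) with h0 | h0
    · have p2 : 0 < Nat.card (NZ z Y ⊔ X : Subgroup G) := Nat.card_pos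
      rw [h5, h0, mul_zero] at p2
      exact absurd p2 (lt_irrefl 0)
    · exact h0
  apply Nat.le_of_mul_le_mul_right _ p1
  calc Nat.card (h.CW A) * (h.CW A).relIndex (NZ z Y ⊔ X) = Nat.card (NZ z Y ⊔ X : Subgroup G) := h5.symm
    _ = Nat.card ((NZ z Y ⊔ X) ⊓ centralizer (A : Set G) : Subgroup G) *
        (centralizer (A : Set G)).relIndex (NZ z Y ⊔ X) := h4
    _ ≤ _ := Nat.mul_le_mul_left _ h3

/-- **(K3)** -/
theorem k3 (hML : MLK.{u, u}) {A : Subgroup G} (hA : Mx (o2 D) A) {w : G} (hw : w ∈ NZ z Y)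
    (hX : ∀ a ∈ A, a * w * a⁻¹ * w⁻¹ ∈ X) : ∀ a ∈ A, a * w = w * a := by
  have h1 : w ∈ h.CW A := ⟨mem_sup_left hw, hX⟩
  rw [← h.CW_eq hML hA] at h1
  exact fun a ha => mem_centralizer_iff.1 h1.2 a ha

/-- **(NO)** : `A` is exact on `N` -/
theorem ex (hML : MLK.{u, u}) {A : Subgroup G} (hA : Mx (o2 D) A) :
    (centralizer (NZ z Y : Set G)).relIndex A ≤ (centralizer (A : Set G)).relIndex (NZ z Y) := by
  refine (h.relIndex_cent hML hA).trans ?_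
  rw [← h.CW_eq hML hA, inf_relIndex_left]
  refine relIndex_le_of_sup le_sup_left (comm_of_sq h.NX_sq) (sup_le le_sup_left ?_)
  exact (le_inf le_sup_right (h.X_cent (h.A_le hA))).trans le_sup_right

/-- `C_A(N) N` is of maximal order -/
theorem mx (hML : MLK.{u, u}) {A : Subgroup G} (hA : Mx (o2 D) A) :
    Mx (o2 D) (A ⊓ centralizer (NZ z Y : Set G) ⊔ NZ z Y) :=
  hA.sup (le_sup_left.trans h.NX_le) (fun _ hx => h.N_sq hx) (h.ex hML hA)

theorem sup_le_o2Y {A : Subgroup G} (hA : Mx (o2 D) A) : A ⊓ centralizer (NZ z Y : Set G) ⊔ NZ z Y ≤ o2 Y :=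
  sup_le (fun _ hx => h.cent_le (hA.le hx.1) hx.2) (h.N_le.trans (zc_le _))

theorem mxY (hML : MLK.{u, u}) {A : Subgroup G} (hA : Mx (o2 D) A) :
    Mx (o2 Y) (A ⊓ centralizer (NZ z Y : Set G) ⊔ NZ z Y) :=
  ⟨h.sup_le_o2Y hA, (h.mx hML hA).sq, fun C hC hC2 => (h.mx hML hA).max C (hC.trans h.Q_le) hC2⟩

/-- `𝒜(O₂(Y)) ⊆ 𝒜(O₂(D))` -/
theorem mx_of (hML : MLK.{u, u}) {A' : Subgroup G} (hA' : Mx (o2 Y) A') : Mx (o2 D) A' := by
  obtain ⟨A, hA⟩ := Mx.exists_mx (o2 D)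
  have h1 := h.mx hML hA
  exact h1.of_card (hA'.le.trans h.Q_le) hA'.sq (hA'.max _ (h.sup_le_o2Y hA) h1.sq)

theorem LJ_le (hML : MLK.{u, u}) : LJ (o2 D) ≤ LJ (o2 Y) := by
  rintro x ⟨h1, h2, h3⟩
  refine ⟨?_, h2, fun A' hA' => h3 A' (h.mx_of hML hA')⟩
  obtain ⟨A, hA⟩ := Mx.exists_mx (o2 D)
  exact h.cent_le h1 (centralizer_le (le_sup_right : NZ z Y ≤ A ⊓ centralizer (NZ z Y : Set G) ⊔ NZ z Y)
    (h3 _ (h.mx hML hA)))

theorem N_le_LJ : NZ z Y ≤ LJ (o2 Y) := by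
  intro x hx
  have h1 := mem_zc.1 (h.N_le hx)
  exact ⟨h1.1, h1.2.2, fun A hA => mem_centralizer_iff.2 fun a ha => h1.2.1 a (hA.le ha)⟩

theorem E_cent : LJ (o2 Y) ≤ centralizer (NZ z Y : Set G) := by
  intro x hx
  rw [mem_centralizer_iff]
  intro n hn
  exact ((mem_zc.1 (h.N_le hn)).2.1 x hx.1).symm

/-- `E = N C_E(A)` -/
theorem E_sup (hML : MLK.{u, u}) {A : Subgroup G} (hA : Mx (o2 D) A) :
    LJ (o2 Y) ≤ NZ z Y ⊔ (LJ (o2 Y) ⊓ centralizer (A : Set G)) := by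
  intro x hx
  have h1 := LJ_le_mem (h.mxY hML hA) hx
  obtain ⟨c, hc, n, hn, rfl⟩ := exists_mul_of_mem_sup
    ((comm_symm inf_le_right).trans (centralizer_le_normalizer _)) h1
  refine mul_mem (mem_sup_right (mem_inf.2 ⟨?_, hA.comm hc.1⟩)) (mem_sup_left hn)
  have h2 := mul_mem hx (inv_mem (h.N_le_LJ hn))
  rwa [mul_inv_cancel_right] at h2

end OneB

end Cfsg.Agent.Omega.EDel.ZJBase

end

section


/-!
# LEMMA ZJ+(q), base (helper371 #26038 (f1)): the GROUP form of helper8's `EDel/Bx/ZJBase.lean`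

`Y` a K-group with Sylow 2-subgroup `T ≤ D = C_Y(Z₁)`, `X` central in `Y`, `{g ∈ Y | [g, Z₁] ≤ X} = D`,
`N = ⟨Z₁^Y⟩ ≤ Ω₁Z(O₂(Y))`, `LJ O = Ω₁Z(J(O))` (`ZJBase.LJ`).

* `OneF.no` : (NO) on `N X / X` (863's `flag_no` in `Y / X`);
* `OneF.k3` : `w ∈ N`, `[w, A] ≤ X` for `A` of maximal order in `O₂(D)` ⟹ `[w, A] = 1`;
* `OneF.ex` : `A` is exact on `N`; `OneF.mx`, `OneF.sup_le_o2Y` : `C_A(N) N` is of maximal order and lies in `O₂(Y)`;
* `OneF.LJ_le`, `OneF.N_le_LJ`, `OneF.E_sup`, `OneF.E_cent`.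
-/

set_option autoImplicit false
set_option linter.unusedSectionVars false

namespace Cfsg.Agent.Omega.NOThreeL.RWide.ZJQBase

open Subgroup Cfsg
open Cfsg.Agent.ZN (o2 zc)
open Cfsg.Agent.ZN.ChoiceSit (Syl o2_le_syl syl_not_dvd)
open Cfsg.Agent.Omega.EDel.ZJBase (LJ mem_LJ LJ_sq LJ_le_mem LJ_norm)
open Cfsg.Agent.Omega.KL.TwoS (Mx comm_of_sq sq_sup relIndex_le_of_sup relIndex_anti)
open Cfsg.Agent.Omega.ML.Final (MLK)
open Cfsg.Agent.Omega.NoFF.Basic (V Z_le_V V_le mem_conj comm_symm)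
open Cfsg.Agent.Omega.OM.KTwo (exists_mul_of_mem_sup le_normalizer_V)
open Cfsg.Agent.MinSimple.VModule (mem_zc zc_le o2_le o2_isPGroup le_o2 le_normalizer_o2 normalizer_le_normalizer_zc)
open Cfsg.Agent.Omega.TC.LemZ (card_eq le_norm_of)
open Cfsg.Agent.Omega.KL.FlagNO (flag_no flag_inf V_le_of_norm le_V')
open scoped Pointwise

universe u

variable {G : Type u} [Group G] [Finite G]

/-- the frame of one block `b` : `Y = C_G(F_a : a ≠ b)`, `X = ⟨F_a : a ≠ b⟩`, `D = C_G(Ω₁Z(T))`, `Z₁ = F_b` -/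
structure OneF (T D Y X Z₁ : Subgroup G) : Prop where
  kg : IsKGroup Y
  syl : Syl T Y
  TD : T ≤ D
  DY : D ≤ Y
  Dz : D ≤ centralizer (Z₁ : Set G)
  ZQ : Z₁ ≤ zc (o2 Y)
  XQ : X ≤ zc (o2 Y)
  XY : X ≤ centralizer (Y : Set G)
  st : ∀ g ∈ Y, (∀ z ∈ Z₁, g * z * g⁻¹ * z⁻¹ ∈ X) → g ∈ D

variable {T D Y X Z₁ : Subgroup G}

namespace OneF

variable (h : OneF T D Y X Z₁)
include h

theorem mem_D {g : G} (hg : g ∈ Y) (hz : ∀ z ∈ Z₁, g * z = z * g) : g ∈ D :=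
  h.st g hg fun z hzZ => by rw [hz z hzZ, mul_inv_cancel_right, mul_inv_cancel]; exact one_mem _

theorem D_eq : Y ⊓ centralizer (Z₁ : Set G) = D :=
  le_antisymm (fun _ hx => h.mem_D hx.1 fun z hz => (mem_centralizer_iff.1 hx.2 z hz).symm) (le_inf h.DY h.Dz)

theorem Q_le : o2 Y ≤ o2 D :=
  le_o2 ((o2_le_syl h.syl).trans h.TD) (o2_isPGroup _) (h.DY.trans (le_normalizer_o2 Y))

theorem N_le : V Z₁ Y ≤ zc (o2 Y) :=
  V_le_of_norm h.ZQ ((le_normalizer_o2 Y).trans (normalizer_le_normalizer_zc _))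

theorem N_sq {x : G} (hx : x ∈ V Z₁ Y) : x ^ 2 = 1 := (mem_zc.1 (h.N_le hx)).2.2

theorem X_sq {x : G} (hx : x ∈ X) : x ^ 2 = 1 := (mem_zc.1 (h.XQ hx)).2.2

theorem X_comm {y x : G} (hy : y ∈ Y) (hx : x ∈ X) : y * x = x * y := mem_centralizer_iff.1 (h.XY hx) y hy

theorem X_conj {y x : G} (hy : y ∈ Y) (hx : x ∈ X) : y * x * y⁻¹ = x := by
  rw [h.X_comm hy hx, mul_inv_cancel_right]

theorem NY : V Z₁ Y ≤ Y := h.N_le.trans ((zc_le _).trans (o2_le Y))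

theorem XleY : X ≤ Y := h.XQ.trans ((zc_le _).trans (o2_le Y))

theorem ZY : Z₁ ≤ Y := h.ZQ.trans ((zc_le _).trans (o2_le Y))

theorem YX : Y ≤ normalizer (X : Set G) := le_norm_of fun _ hy _ hx => by rw [h.X_conj hy hx]; exact hx

theorem Y_norm_NX : Y ≤ normalizer ((V Z₁ Y ⊔ X : Subgroup G) : Set G) := by
  refine le_norm_of fun c hc x hx => ?_
  obtain ⟨n, hn, e, he, rfl⟩ := exists_mul_of_mem_sup (h.XleY.trans (le_normalizer_V _ _)) hx
  have e1 : c * (n * e) * c⁻¹ = (c * n * c⁻¹) * (c * e * c⁻¹) := by group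
  rw [e1, h.X_conj hc he]
  exact mul_mem (mem_sup_left ((mem_normalizer_iff.1 (le_normalizer_V Z₁ Y hc) n).1 hn)) (mem_sup_right he)

/-- elements of `Y` which centralise `N` modulo `X` centralise `N` -/
theorem ker {g : G} (hg : g ∈ Y) (hN : ∀ x ∈ V Z₁ Y, g * x * g⁻¹ * x⁻¹ ∈ X) : g ∈ centralizer (V Z₁ Y : Set G) := by
  -- the conjugates of `g` lie in `D`
  have h1 : ∀ y ∈ Y, y⁻¹ * g * y ∈ D := by
    intro y hy
    refine h.st _ (mul_mem (mul_mem (inv_mem hy) hg) hy) fun z hz => ?_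
    have hyz : y * z * y⁻¹ ∈ V Z₁ Y := (mem_normalizer_iff.1 (le_normalizer_V Z₁ Y hy) z).1 (le_V' Z₁ Y hz)
    have h2 := hN _ hyz
    have e : y⁻¹ * g * y * z * (y⁻¹ * g * y)⁻¹ * z⁻¹ = y⁻¹ * (g * (y * z * y⁻¹) * g⁻¹ * (y * z * y⁻¹)⁻¹) * y⁻¹⁻¹ := by
      group
    rw [e, h.X_conj (inv_mem hy) h2]
    exact h2
  -- `g` centralises all conjugates of `Z₁`
  have h2 : V Z₁ Y ≤ centralizer ({g} : Set G) := by
    refine V_le fun p hp => ?_
    intro x hx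
    rw [mem_conj] at hx
    have h3 := mem_centralizer_iff.1 (h.Dz (h1 p hp)) _ hx
    rw [mem_centralizer_singleton_iff]
    calc x * g = p * (p⁻¹ * x * p * (p⁻¹ * g * p)) * p⁻¹ := by group
      _ = p * (p⁻¹ * g * p * (p⁻¹ * x * p)) * p⁻¹ := by rw [h3]
      _ = g * x := by group
  rw [mem_centralizer_iff]
  exact fun x hx => mem_centralizer_singleton_iff.1 (h2 hx)

/-- `O₂(D) ∩ C(N) ≤ O₂(Y)` -/
theorem cent_le {g : G} (hg : g ∈ o2 D) (hN : g ∈ centralizer (V Z₁ Y : Set G)) : g ∈ o2 Y := by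
  have h1 := flag_inf (H := Y) (Z := Z₁) (B := o2 D) (by rw [h.D_eq])
  exact h1 ⟨hg, hN⟩

theorem NX_le : V Z₁ Y ⊔ X ≤ o2 D :=
  sup_le (h.N_le.trans ((zc_le _).trans h.Q_le)) (h.XQ.trans ((zc_le _).trans h.Q_le))

theorem NX_sq : ∀ x ∈ V Z₁ Y ⊔ X, x ^ 2 = 1 := fun _ hx => (mem_zc.1 ((sup_le h.N_le h.XQ) hx)).2.2

theorem X_cent {A : Subgroup G} (hAY : A ≤ Y) : X ≤ centralizer (A : Set G) := h.XY.trans (centralizer_le hAY)

theorem mem_Y {x : G} (hx : x ∈ V Z₁ Y ⊔ X) : x ∈ Y := h.DY (o2_le D (h.NX_le hx))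

/-- the elements of `N X` which `A` centralises modulo `X` -/
def CW (A : Subgroup G) : Subgroup G where
  carrier := {x | x ∈ V Z₁ Y ⊔ X ∧ ∀ a ∈ A, a * x * a⁻¹ * x⁻¹ ∈ X}
  one_mem' := ⟨one_mem _, fun a _ => by simp⟩
  mul_mem' := by
    rintro x y ⟨h1, h2⟩ ⟨k1, k2⟩
    refine ⟨mul_mem h1 k1, fun a ha => ?_⟩
    have h3 : x * (a * y * a⁻¹ * y⁻¹) * x⁻¹ = a * y * a⁻¹ * y⁻¹ := h.X_conj (h.mem_Y h1) (k2 a ha)
    have e : a * (x * y) * a⁻¹ * (x * y)⁻¹ = (a * x * a⁻¹ * x⁻¹) * (x * (a * y * a⁻¹ * y⁻¹) * x⁻¹) := by group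
    rw [e, h3]
    exact mul_mem (h2 a ha) (k2 a ha)
  inv_mem' := by
    rintro x ⟨h1, h2⟩
    refine ⟨inv_mem h1, fun a ha => ?_⟩
    have h3 : x⁻¹ * (a * x * a⁻¹ * x⁻¹)⁻¹ * x⁻¹⁻¹ = (a * x * a⁻¹ * x⁻¹)⁻¹ :=
      h.X_conj (inv_mem (h.mem_Y h1)) (inv_mem (h2 a ha))
    have e : a * x⁻¹ * a⁻¹ * x⁻¹⁻¹ = x⁻¹ * (a * x * a⁻¹ * x⁻¹)⁻¹ * x⁻¹⁻¹ := by group
    rw [e, h3]
    exact inv_mem (h2 a ha)

/-- **(NO)** on `N X / X` -/
theorem no (hML : MLK.{u, u}) {A : Subgroup G} (hA : A ≤ o2 D) (hA2 : ∀ a ∈ A, a ^ 2 = 1) :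
    (centralizer (V Z₁ Y : Set G)).relIndex A ≤ (h.CW A).relIndex (V Z₁ Y ⊔ X) := by
  set N : Subgroup G := V Z₁ Y with hN
  have hNC : N ≤ Y := h.NY
  have hZC : Z₁ ≤ Y := h.ZY
  have hEC : X ≤ Y := h.XleY
  have hAC : A ≤ Y := (hA.trans (o2_le _)).trans h.DY
  have hnor : (X.subgroupOf Y).Normal := normal_subgroupOf_of_le_normalizer h.YX
  let π : Y →* Y ⧸ X.subgroupOf Y := QuotientGroup.mk' (X.subgroupOf Y)
  have hπ : Function.Surjective π := QuotientGroup.mk'_surjective _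
  have hone : ∀ x y : Y, π x = π y ↔ (x : G) * (y : G)⁻¹ ∈ X := by
    intro x y
    rw [← mul_inv_eq_one, ← map_inv, ← map_mul, ← MonoidHom.mem_ker, QuotientGroup.ker_mk']
    exact Iff.rfl
  have hcom : ∀ x y : Y, π x * π y = π y * π x ↔ (x : G) * y * (x : G)⁻¹ * (y : G)⁻¹ ∈ X := by
    intro x y
    rw [← map_mul, ← map_mul, hone]
    have e : ((x * y : Y) : G) * ((y * x : Y) : G)⁻¹ = (x : G) * y * (x : G)⁻¹ * (y : G)⁻¹ := by
      push_cast; group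
    rw [e]
  set Zb : Subgroup (Y ⧸ X.subgroupOf Y) := (Z₁.subgroupOf Y).map π with hZb
  set Tb : Subgroup (Y ⧸ X.subgroupOf Y) := (T.subgroupOf Y).map π with hTb
  set Ab : Subgroup (Y ⧸ X.subgroupOf Y) := (A.subgroupOf Y).map π with hAb
  -- `⟨Zb^Y⟩`
  have hV : V Zb (⊤ : Subgroup (Y ⧸ X.subgroupOf Y)) = ((N ⊔ X).subgroupOf Y).map π := by
    apply le_antisymm
    · refine V_le_of_norm ?_ ?_
      · exact map_mono fun z hz => mem_subgroupOf.2 (mem_sup_left ((le_V' Z₁ Y) (mem_subgroupOf.1 hz)))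
      · refine le_norm_of fun g _ x hx => ?_
        obtain ⟨c, rfl⟩ := hπ g
        obtain ⟨y, hy, rfl⟩ := hx
        rw [← map_inv, ← map_mul, ← map_mul]
        exact mem_map_of_mem π (mem_subgroupOf.2 ((mem_normalizer_iff.1 (h.Y_norm_NX c.2) _).1 (mem_subgroupOf.1 hy)))
    · let U : Subgroup G := ((V Zb (⊤ : Subgroup (Y ⧸ X.subgroupOf Y))).comap π).map Y.subtype
      have hU : ∀ x : Y, (x : G) ∈ U ↔ π x ∈ V Zb (⊤ : Subgroup (Y ⧸ X.subgroupOf Y)) := by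
        intro x
        constructor
        · rintro ⟨y, hy, hyx⟩
          rw [← (Subtype.ext hyx : y = x)]
          exact hy
        · exact fun hx => ⟨x, hx, rfl⟩
      have h1 : N ⊔ X ≤ U := by
        refine sup_le (V_le_of_norm (fun z hz => ?_) (le_norm_of fun c hc x hx => ?_)) fun e he => ?_
        · exact (hU ⟨z, hZC hz⟩).2 (le_V' _ _ (mem_map_of_mem π (mem_subgroupOf.2 hz)))
        · obtain ⟨y, hy, rfl⟩ := hx
          have h2 := (mem_normalizer_iff.1 (le_normalizer_V Zb (⊤ : Subgroup (Y ⧸ X.subgroupOf Y))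
            (mem_top (π ⟨c, hc⟩))) (π y)).1 hy
          rw [← map_inv, ← map_mul, ← map_mul] at h2
          exact (hU (⟨c, hc⟩ * y * ⟨c, hc⟩⁻¹)).2 h2
        · refine (hU ⟨e, hEC he⟩).2 ?_
          have h2 : π ⟨e, hEC he⟩ = 1 := by
            rw [← map_one π, hone]
            simpa using he
          rw [h2]
          exact one_mem _
      rintro _ ⟨y, hy, rfl⟩
      exact (hU y).1 (h1 (mem_subgroupOf.1 hy))
  -- centralisers
  have hcZ : centralizer (Zb : Set (Y ⧸ X.subgroupOf Y)) = (D.subgroupOf Y).map π := by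
    apply le_antisymm
    · intro g hg
      obtain ⟨c, rfl⟩ := hπ g
      refine mem_map_of_mem π (mem_subgroupOf.2 (h.st c c.2 fun z hz => ?_))
      have h1 := mem_centralizer_iff.1 hg (π ⟨z, hZC hz⟩) (mem_map_of_mem π (mem_subgroupOf.2 hz))
      exact (hcom c ⟨z, hZC hz⟩).1 h1.symm
    · rintro _ ⟨c, hc, rfl⟩
      rw [mem_centralizer_iff]
      rintro _ ⟨z, hz, rfl⟩
      rw [← map_mul, ← map_mul]
      exact congrArg π (Subtype.ext (mem_centralizer_iff.1 (h.Dz (mem_subgroupOf.1 hc)) z (mem_subgroupOf.1 hz)))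
  have key := flag_no hML (H := (⊤ : Subgroup (Y ⧸ X.subgroupOf Y))) (Z := Zb) (T := Tb) (B := Ab)
    ((h.syl.2.1.comap_of_injective Y.subtype Y.subtype_injective).map π) le_top (by
      rw [relIndex_top_right]
      exact fun h2 => syl_not_dvd h.syl (h2.trans (index_map_dvd _ hπ))) (by
      rw [hcZ]
      exact map_mono fun t ht => mem_subgroupOf.2 (h.TD (mem_subgroupOf.1 ht)))
    (ML.Final.sec_KG.sub _ (ML.Final.sec_KG.quo Y h.kg _) ⊤) (by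
      rw [hV]
      rintro _ ⟨x, hx, rfl⟩
      have h1 : x ^ 2 = 1 := Subtype.ext (h.NX_sq x (mem_subgroupOf.1 hx))
      rw [← map_pow, h1, map_one]) (by
      rw [top_inf_eq, hcZ]
      have h1 : Ab ≤ ((o2 D).subgroupOf Y).map π :=
        map_mono fun a ha => mem_subgroupOf.2 (hA (mem_subgroupOf.1 ha))
      refine h1.trans (le_o2 (map_mono fun a ha => mem_subgroupOf.2 (o2_le _ (mem_subgroupOf.1 ha)))
        (((o2_isPGroup _).comap_of_injective Y.subtype Y.subtype_injective).map π) ?_)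
      refine (map_mono ?_).trans (le_normalizer_map π)
      intro c hc
      rw [mem_normalizer_iff]
      intro x
      exact mem_normalizer_iff.1 (le_normalizer_o2 _ (mem_subgroupOf.1 hc)) (x : G)) (by
      rintro _ ⟨x, hx, rfl⟩
      have h1 : x ^ 2 = 1 := Subtype.ext (hA2 x (mem_subgroupOf.1 hx))
      rw [← map_pow, h1, map_one])
  -- translate
  have e1 : (centralizer (N : Set G)).relIndex A ≤
      (centralizer (V Zb (⊤ : Subgroup (Y ⧸ X.subgroupOf Y)) : Set (Y ⧸ X.subgroupOf Y))).relIndex Ab := by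
    rw [hAb, ← relIndex_comap, ← relIndex_subgroupOf hAC]
    rw [← inf_relIndex_left (A.subgroupOf Y)
      ((centralizer (V Zb (⊤ : Subgroup (Y ⧸ X.subgroupOf Y)) : Set (Y ⧸ X.subgroupOf Y))).comap π)]
    refine relIndex_anti fun c hc => ?_
    refine mem_subgroupOf.2 (h.ker c.2 fun x hx => ?_)
    have h2 : π ⟨x, hNC hx⟩ ∈ V Zb (⊤ : Subgroup (Y ⧸ X.subgroupOf Y)) := by
      rw [hV]
      exact mem_map_of_mem π (mem_subgroupOf.2 (mem_sup_left hx))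
    have h3 := mem_centralizer_iff.1 (mem_comap.1 hc.2) _ h2
    exact (hcom c ⟨x, hNC hx⟩).1 h3.symm
  have e2 : (centralizer (Ab : Set (Y ⧸ X.subgroupOf Y))).relIndex
      (V Zb (⊤ : Subgroup (Y ⧸ X.subgroupOf Y))) = (h.CW A).relIndex (N ⊔ X) := by
    rw [hV, ← relIndex_comap, ← relIndex_subgroupOf (sup_le hNC hEC), ← inf_relIndex_right,
      ← inf_relIndex_right ((h.CW A).subgroupOf Y)]
    congr 1
    ext x
    constructor
    · rintro ⟨h1, h2⟩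
      refine ⟨mem_subgroupOf.2 ⟨mem_subgroupOf.1 h2, fun a ha => ?_⟩, h2⟩
      have h3 := mem_centralizer_iff.1 (mem_comap.1 h1) (π ⟨a, hAC ha⟩) (mem_map_of_mem π (mem_subgroupOf.2 ha))
      exact (hcom ⟨a, hAC ha⟩ x).1 h3
    · rintro ⟨h1, h2⟩
      refine ⟨mem_comap.2 (mem_centralizer_iff.2 ?_), h2⟩
      rintro _ ⟨a, ha, rfl⟩
      exact (hcom a x).2 ((mem_subgroupOf.1 h1).2 a (mem_subgroupOf.1 ha))
  exact (e1.trans key).trans e2.le

variable {A : Subgroup G}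

theorem A_le (hA : Mx (o2 D) A) : A ≤ Y := hA.le.trans ((o2_le D).trans h.DY)

/-- `C_A(N X) = C_A(N)` -/
theorem cent_NX (hA : Mx (o2 D) A) :
    A ⊓ centralizer ((V Z₁ Y ⊔ X : Subgroup G) : Set G) = A ⊓ centralizer (V Z₁ Y : Set G) := by
  refine le_antisymm (inf_le_inf_left _ (centralizer_le (le_sup_left : V Z₁ Y ≤ V Z₁ Y ⊔ X))) ?_
  refine le_inf inf_le_left ?_
  have h1 : V Z₁ Y ⊔ X ≤ centralizer ((A ⊓ centralizer (V Z₁ Y : Set G) : Subgroup G) : Set G) :=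
    sup_le (comm_symm inf_le_right) ((h.X_cent (h.A_le hA)).trans (centralizer_le inf_le_left))
  exact comm_symm h1

/-- `C_{NX/X}(A)` is the image of `C_{NX}(A)` -/
theorem CW_eq (hML : MLK.{u, u}) (hA : Mx (o2 D) A) :
    (V Z₁ Y ⊔ X) ⊓ centralizer (A : Set G) = h.CW A := by
  have hle : (V Z₁ Y ⊔ X) ⊓ centralizer (A : Set G) ≤ h.CW A := by
    intro x hx
    refine ⟨hx.1, fun a ha => ?_⟩
    rw [mem_centralizer_iff.1 hx.2 a ha, mul_inv_cancel_right, mul_inv_cancel]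
    exact one_mem _
  have h1 := hA.thom h.NX_le h.NX_sq
  have h2 : (centralizer ((V Z₁ Y ⊔ X : Subgroup G) : Set G)).relIndex A = (centralizer (V Z₁ Y : Set G)).relIndex A := by
    rw [← inf_relIndex_left A (centralizer ((V Z₁ Y ⊔ X : Subgroup G) : Set G)), h.cent_NX hA, inf_relIndex_left]
  rw [h2] at h1
  have h3 := h1.trans (h.no hML hA.le hA.sq)
  have h4 := card_eq (V Z₁ Y ⊔ X) (centralizer (A : Set G))
  have h5 := card_eq (V Z₁ Y ⊔ X) (h.CW A)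
  have h6 : (V Z₁ Y ⊔ X) ⊓ h.CW A = h.CW A := inf_eq_right.2 fun x hx => hx.1
  rw [h6] at h5
  refine Subgroup.eq_of_le_of_card_ge hle ?_
  have p1 : 0 < (h.CW A).relIndex (V Z₁ Y ⊔ X) := by
    rcases Nat.eq_zero_or_pos ((h.CW A).relIndex (V Z₁ Y ⊔ X)) with h0 | h0
    · have p2 : 0 < Nat.card (V Z₁ Y ⊔ X : Subgroup G) := Nat.card_pos
      rw [h5, h0, mul_zero] at p2
      exact absurd p2 (lt_irrefl 0)
    · exact h0
  apply Nat.le_of_mul_le_mul_right _ p1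
  calc Nat.card (h.CW A) * (h.CW A).relIndex (V Z₁ Y ⊔ X) = Nat.card (V Z₁ Y ⊔ X : Subgroup G) := h5.symm
    _ = Nat.card ((V Z₁ Y ⊔ X) ⊓ centralizer (A : Set G) : Subgroup G) *
        (centralizer (A : Set G)).relIndex (V Z₁ Y ⊔ X) := h4
    _ ≤ _ := Nat.mul_le_mul_left _ h3

/-- **(K3)** -/
theorem k3 (hML : MLK.{u, u}) (hA : Mx (o2 D) A) {w : G} (hw : w ∈ V Z₁ Y)
    (hX : ∀ a ∈ A, a * w * a⁻¹ * w⁻¹ ∈ X) : ∀ a ∈ A, a * w = w * a := by
  have h1 : w ∈ h.CW A := ⟨mem_sup_left hw, hX⟩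
  rw [← h.CW_eq hML hA] at h1
  exact fun a ha => mem_centralizer_iff.1 h1.2 a ha

/-- **(NO)** : `A` is exact on `N` -/
theorem ex (hML : MLK.{u, u}) (hA : Mx (o2 D) A) :
    (centralizer (V Z₁ Y : Set G)).relIndex A ≤ (centralizer (A : Set G)).relIndex (V Z₁ Y) := by
  refine (h.no hML hA.le hA.sq).trans ?_
  rw [← h.CW_eq hML hA, inf_relIndex_left]
  refine relIndex_le_of_sup le_sup_left (comm_of_sq h.NX_sq) (sup_le le_sup_left ?_)
  exact (le_inf le_sup_right (h.X_cent (h.A_le hA))).trans le_sup_right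

/-- `C_A(N) N` is of maximal order -/
theorem mx (hML : MLK.{u, u}) (hA : Mx (o2 D) A) : Mx (o2 D) (A ⊓ centralizer (V Z₁ Y : Set G) ⊔ V Z₁ Y) :=
  hA.sup (le_sup_left.trans h.NX_le) (fun _ hx => h.N_sq hx) (h.ex hML hA)

theorem sup_le_o2Y (hA : Mx (o2 D) A) : A ⊓ centralizer (V Z₁ Y : Set G) ⊔ V Z₁ Y ≤ o2 Y :=
  sup_le (fun _ hx => h.cent_le (hA.le hx.1) hx.2) (h.N_le.trans (zc_le _))

theorem mxY (hML : MLK.{u, u}) (hA : Mx (o2 D) A) : Mx (o2 Y) (A ⊓ centralizer (V Z₁ Y : Set G) ⊔ V Z₁ Y) :=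
  ⟨h.sup_le_o2Y hA, (h.mx hML hA).sq, fun C hC hC2 => (h.mx hML hA).max C (hC.trans h.Q_le) hC2⟩

/-- `𝒜(O₂(Y)) ⊆ 𝒜(O₂(D))` -/
theorem mx_of (hML : MLK.{u, u}) {A' : Subgroup G} (hA' : Mx (o2 Y) A') : Mx (o2 D) A' := by
  obtain ⟨A, hA⟩ := Mx.exists_mx (o2 D)
  have h1 := h.mx hML hA
  exact h1.of_card (hA'.le.trans h.Q_le) hA'.sq (hA'.max _ (h.sup_le_o2Y hA) h1.sq)

theorem LJ_le (hML : MLK.{u, u}) : LJ (o2 D) ≤ LJ (o2 Y) := by
  rintro x ⟨h1, h2, h3⟩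
  refine ⟨?_, h2, fun A' hA' => h3 A' (h.mx_of hML hA')⟩
  obtain ⟨A, hA⟩ := Mx.exists_mx (o2 D)
  exact h.cent_le h1 (centralizer_le (le_sup_right : V Z₁ Y ≤ A ⊓ centralizer (V Z₁ Y : Set G) ⊔ V Z₁ Y)
    (h3 _ (h.mx hML hA)))

theorem N_le_LJ : V Z₁ Y ≤ LJ (o2 Y) := by
  intro x hx
  have h1 := mem_zc.1 (h.N_le hx)
  exact ⟨h1.1, h1.2.2, fun A hA => mem_centralizer_iff.2 fun a ha => h1.2.1 a (hA.le ha)⟩

theorem X_le_LJ : X ≤ LJ (o2 Y) := by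
  intro x hx
  have h1 := mem_zc.1 (h.XQ hx)
  exact ⟨h1.1, h1.2.2, fun A hA => mem_centralizer_iff.2 fun a ha => h1.2.1 a (hA.le ha)⟩

theorem E_cent : LJ (o2 Y) ≤ centralizer (V Z₁ Y : Set G) := by
  intro x hx
  rw [mem_centralizer_iff]
  intro n hn
  exact ((mem_zc.1 (h.N_le hn)).2.1 x hx.1).symm

theorem Y_norm_LJ : Y ≤ normalizer (LJ (o2 Y) : Set G) := (le_normalizer_o2 Y).trans (LJ_norm _)

/-- `E = N C_E(A)` -/
theorem E_sup (hML : MLK.{u, u}) (hA : Mx (o2 D) A) :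
    LJ (o2 Y) ≤ V Z₁ Y ⊔ (LJ (o2 Y) ⊓ centralizer (A : Set G)) := by
  intro x hx
  have h1 := LJ_le_mem (h.mxY hML hA) hx
  obtain ⟨c, hc, n, hn, rfl⟩ := exists_mul_of_mem_sup
    ((comm_symm inf_le_right).trans (centralizer_le_normalizer _)) h1
  refine mul_mem (mem_sup_right (mem_inf.2 ⟨?_, hA.comm hc.1⟩)) (mem_sup_left hn)
  have h2 := mul_mem hx (inv_mem (h.N_le_LJ hn))
  rwa [mul_inv_cancel_right] at h2

end OneF

end Cfsg.Agent.Omega.NOThreeL.RWide.ZJQBase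

end
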